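import Mathlib
import Groth.Agent.CubicTPLib.Chart
import Groth.Agent.S19500

/-! Five rational points in general position on a cubic surface with a rational point which is not a T-point. -/

set_option autoImplicit false
universe u v

namespace Groth.Agent.CubicTPLib

open MvPolynomial

variable {k : Type u} [Field k] [CharZero k] {K : Type v} [Field K] [Algebra k K] [IsAlgClosed K]

/-- A functional as a vector. -/
lemma exists_dot_eq (f : Module.Dual k (Fin 4 → k)) : ∃ l, ∀ v, dot l v = f v := by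
  refine ⟨fun i => f (Pi.single i 1), fun v => ?_⟩
  conv_rhs => rw [pi_eq_sum_univ' v, map_sum]
  exact Finset.sum_congr rfl fun i _ => by rw [map_smul, smul_eq_mul, mul_comm]

lemma exists_dot_vanish {ι : Type*} (v : ι → Fin 4 → k) (h : Submodule.span k (Set.range v) ≠ ⊤) :
    ∃ l : Fin 4 → k, l ≠ 0 ∧ ∀ i, dot l (v i) = 0 := by
  obtain ⟨f, hf, hfv⟩ := Submodule.exists_le_ker_of_lt_top _ (lt_top_iff_ne_top.mpr h)
  obtain ⟨l, hl⟩ := exists_dot_eq f
  refine ⟨l, fun h0 => hf (LinearMap.ext fun v => ?_), fun i => (hl _).trans (hfv (Submodule.subset_span ⟨i, rfl⟩))⟩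
  rw [← hl, h0]
  simp [dot]

lemma span_ne_top_of_card_lt {m : ℕ} (hm : m < 4) (v : Fin m → Fin 4 → k) : Submodule.span k (Set.range v) ≠ ⊤ := by
  intro h
  have := finrank_range_le_card (R := k) v
  rw [Set.finrank, h, finrank_top, Module.finrank_fintype_fun_eq_card, Fintype.card_fin, Fintype.card_fin] at this
  omega

lemma notMem_span_of_dot {ι : Type*} (v : ι → Fin 4 → k) (l q : Fin 4 → k) (hl : ∀ i, dot l (v i) = 0) (hq : dot l q ≠ 0) :
    q ∉ Submodule.span k (Set.range v) := by
  intro hmem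
  refine hq ?_
  clear hq
  induction hmem using Submodule.span_induction with
  | mem x hx => obtain ⟨i, rfl⟩ := hx; exact hl i
  | zero => simp [dot]
  | add x y _ _ hx hy => rw [dot_add, hx, hy, add_zero]
  | smul c x _ hx => rw [dot_smul, hx, mul_zero]

/-- A fifth point from an independent four. -/
lemma five_of_li (F : MvPolynomial (Fin 4) k) {p : Fin 4 → Fin 4 → k} (hp : LinearIndependent k p)
    (hF : ∀ i, eval (p i) F = 0)
    (h5 : ∀ ls : Fin 4 → (Fin 4 → k), (∀ i, ls i ≠ 0 ∧ dot (ls i) (p i) ≠ 0 ∧ ∀ j, j ≠ i → dot (ls i) (p j) = 0) →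
      ∃ q, eval q F = 0 ∧ ∀ i, dot (ls i) q ≠ 0) :
    ∃ p' : Fin 5 → (Fin 4 → k), p' 0 = p 0 ∧ (∀ j : Fin 5, eval (p' j) F = 0) ∧
      ∀ j : Fin 5, LinearIndependent k (fun i : Fin 4 => p' (j.succAbove i)) := by
  classical
  let B := basisOfLinearIndependentOfCardEqFinrank hp (by simp)
  have hB : ∀ i, B i = p i := fun i => by simp [B]
  choose ls hls using fun i => exists_dot_eq (B.coord i)
  have hval : ∀ i j, dot (ls i) (p j) = if j = i then 1 else 0 := fun i j => by
    rw [hls, Module.Basis.coord_apply, ← hB, B.repr_self, Finsupp.single_apply]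
  obtain ⟨q, hq, hql⟩ := h5 ls fun i => ⟨fun h => by simpa [h, dot] using hval i i,
    by simp [hval], fun j hj => by simp [hval, hj]⟩
  refine ⟨Fin.snoc p q, ?_, fun j => ?_, fun j => linearIndependent_five hp B hB q (fun i => ?_) j⟩
  · exact Fin.snoc_castSucc (α := fun _ => Fin 4 → k) q p 0
  · cases j using Fin.lastCases with
    | last => rw [Fin.snoc_last]; exact hq
    | cast i => rw [Fin.snoc_castSucc]; exact hF i
  · have := hql i
    rwa [hls] at this

/-- Five points when the given point is singular. -/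
theorem five_singular (F : MvPolynomial (Fin 4) k) (hF : F.IsHomogeneous 3)
    (hirr : Irreducible (MvPolynomial.map (algebraMap k K) F))
    (hcone : ¬ ∃ v : Fin 4 → k, v ≠ 0 ∧ ∑ i : Fin 4, v i • pderiv i F = 0)
    (a : Fin 4 → k) (ha : a ≠ 0) (hFa : eval a F = 0) (hsing : grad F a = 0) :
    ∃ p : Fin 5 → (Fin 4 → k), p 0 = a ∧ (∀ j : Fin 5, eval (p j) F = 0) ∧
      ∀ j : Fin 5, LinearIndependent k (fun i : Fin 4 => p (j.succAbove i)) := by
  classical
  let P : MvPolynomial (Fin 4) k := ∑ i, a i • pderiv i F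
  have hP : P.IsHomogeneous 2 := IsHomogeneous.sum _ _ _ fun i _ => by
    rw [smul_eq_C_mul]; exact (hF.pderiv (i := i)).C_mul _
  have hP0 : P ≠ 0 := fun h => hcone ⟨a, ha, h⟩
  -- the residual point
  have hres : ∀ v, eval (eval v P • v - eval v F • a) F = 0 := by
    intro v
    let e : Fin 3 → Fin 4 → k := ![a, v, 0]
    have hsum : ∀ x : Fin 3 → k, (∑ i, x i • e i) = x 0 • a + x 1 • v := fun x => by simp [Fin.sum_univ_three, e]
    have h0 : eval (![1, 0, 0] : Fin 3 → k) (planeSec F e) = 0 := by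
      rw [eval_planeSec, hsum]; simpa using hFa
    have h1 : ∀ i, eval (![1, 0, 0] : Fin 3 → k) (pderiv i (planeSec F e)) = 0 := fun i => by
      rw [eval_pderiv_planeSec, hsum]; simp [hsing, dot]
    obtain ⟨A, B, C', p, q, r, s, hsh⟩ := singular_shape (isHomogeneous_planeSec hF e) h0 h1
    have hp : eval v F = p := by
      have := hsh ![0, 1, 0]
      rw [eval_planeSec, hsum] at this
      simpa using this
    have hA : eval v P = A := by
      have hGeq : planeSec F e = X 0 * (C A * X 1 ^ 2 + C B * X 1 * X 2 + C C' * X 2 ^ 2) +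
          (C p * X 1 ^ 3 + C q * X 1 ^ 2 * X 2 + C r * X 1 * X 2 ^ 2 + C s * X 2 ^ 3) :=
        MvPolynomial.funext fun x => by rw [hsh]; simp
      have h2 := eval_pderiv_planeSec F e ![0, 1, 0] 0
      rw [hsum, hGeq] at h2
      simp [pderiv_mul, e] at h2
      rw [h2]
      simp [P, dot, grad, mul_comm]
    have h := hsh ![-p, A, 0]
    rw [eval_planeSec, hsum] at h
    rw [hA, hp, sub_eq_add_neg, add_comm, ← neg_smul]
    refine Eq.trans ?_ (h.trans ?_)
    · simp
    · simp
      ring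
  -- no functional vanishes on all residual points
  let ψ : (Fin 4 → k) → MvPolynomial (Fin 4) k := fun l => P * (∑ i, C (l i) * X i) - F * C (dot l a)
  have hψ : ∀ l v, eval v (ψ l) = dot l (eval v P • v - eval v F • a) := fun l v => by
    simp [ψ, dot, mul_sub, Finset.sum_sub_distrib, Finset.mul_sum, Finset.sum_mul]
    exact congrArg₂ (· - ·) (Finset.sum_congr rfl fun i _ => by ring) (Finset.sum_congr rfl fun i _ => by ring)
  have hψ0 : ∀ l, l ≠ 0 → ψ l ≠ 0 := by
    intro l hl h
    obtain ⟨i, hi⟩ := Function.ne_iff.mp hl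
    have hL : (∑ i, C (l i) * X i : MvPolynomial (Fin 4) k) ≠ 0 := fun h0 => by
      have := congrArg (eval (Pi.single i 1)) h0
      simp [Pi.single_apply] at this
      exact hi this
    by_cases hla : dot l a = 0
    · simp [ψ, hla, hP0, hL] at h
    · have hfac : F = P * ((∑ i, C (l i) * X i) * C (dot l a)⁻¹) := by
        have h2 : F * C (dot l a) = P * ∑ i, C (l i) * X i := (sub_eq_zero.mp h).symm
        rw [← mul_assoc, ← h2, mul_assoc, ← map_mul, mul_inv_cancel₀ hla, map_one, mul_one]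
      rw [hfac, map_mul] at hirr
      have hL1 : ((∑ i, C (l i) * X i) * C (dot l a)⁻¹ : MvPolynomial (Fin 4) k).IsHomogeneous 1 := by
        have := (IsHomogeneous.sum (Finset.univ) (fun i : Fin 4 => C (l i) * X i) 1
          fun i _ => isHomogeneous_C_mul_X _ _).mul (isHomogeneous_C (Fin 4) (dot l a)⁻¹)
        simpa using this
      have hnu : ∀ (Q : MvPolynomial (Fin 4) k) (n : ℕ), Q.IsHomogeneous n → 0 < n →
          ¬ IsUnit (MvPolynomial.map (algebraMap k K) Q) := fun Q n hQ hn hu => by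
        have h3 := hu.map (constantCoeff : MvPolynomial (Fin 4) K →+* K)
        rw [constantCoeff_eq, coeff_map, hQ.coeff_eq_zero (by simpa using hn.ne), map_zero] at h3
        exact not_isUnit_zero h3
      rcases hirr.isUnit_or_isUnit rfl with hu | hu
      · exact hnu P 2 hP two_pos hu
      · exact hnu _ 1 hL1 one_pos hu
  have havoid : ∀ (m : ℕ) (ls : Fin m → Fin 4 → k), (∀ i, ls i ≠ 0) → ∃ q, eval q F = 0 ∧ ∀ i, dot (ls i) q ≠ 0 := by
    intro m ls hls
    have hne : ∏ i, ψ (ls i) ≠ 0 := Finset.prod_ne_zero_iff.mpr fun i _ => hψ0 _ (hls i)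
    obtain ⟨v, hv⟩ : ∃ v, eval v (∏ i, ψ (ls i)) ≠ 0 := by
      by_contra hno
      push Not at hno
      exact hne (MvPolynomial.funext fun v => by rw [hno, map_zero])
    rw [map_prod, Finset.prod_ne_zero_iff] at hv
    exact ⟨_, hres v, fun i => by rw [← hψ]; exact hv i (Finset.mem_univ i)⟩
  have hstep : ∀ (m : ℕ), m < 4 → ∀ v : Fin m → Fin 4 → k, LinearIndependent k v → (∀ i, eval (v i) F = 0) →
      ∃ q, eval q F = 0 ∧ LinearIndependent k (Fin.snoc v q : Fin (m + 1) → Fin 4 → k) := by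
    intro m hm v hv _
    obtain ⟨l, hl, hlv⟩ := exists_dot_vanish v (span_ne_top_of_card_lt hm v)
    obtain ⟨q, hq, hlq⟩ := havoid 1 (fun _ => l) fun _ => hl
    exact ⟨q, hq, linearIndependent_fin_snoc.mpr ⟨hv, notMem_span_of_dot v l q hlv (hlq 0)⟩⟩
  obtain ⟨p1, hp1, hli1⟩ := hstep 1 (by norm_num) ![a] (LinearIndependent.of_subsingleton (0 : Fin 1) (by simpa using ha)) (by simpa using hFa)
  have hF2 : ∀ i, eval ((Fin.snoc ![a] p1 : Fin 2 → Fin 4 → k) i) F = 0 := fun i => by
    cases i using Fin.lastCases with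
    | last => rw [Fin.snoc_last]; exact hp1
    | cast i => rw [Fin.snoc_castSucc]; simpa using hFa
  obtain ⟨p2, hp2, hli2⟩ := hstep 2 (by norm_num) _ hli1 hF2
  have hF3 : ∀ i, eval ((Fin.snoc (Fin.snoc ![a] p1) p2 : Fin 3 → Fin 4 → k) i) F = 0 := fun i => by
    cases i using Fin.lastCases with
    | last => rw [Fin.snoc_last]; exact hp2
    | cast i => rw [Fin.snoc_castSucc]; exact hF2 i
  obtain ⟨p3, hp3, hli3⟩ := hstep 3 (by norm_num) _ hli2 hF3
  obtain ⟨p, hp0, hp⟩ := five_of_li F hli3 (fun i => by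
    cases i using Fin.lastCases with
    | last => rw [Fin.snoc_last]; exact hp3
    | cast i => rw [Fin.snoc_castSucc]; exact hF3 i) fun ls hls => havoid 4 ls fun i => (hls i).1
  exact ⟨p, hp0.trans rfl, hp⟩

omit [CharZero k] [IsAlgClosed K] in
lemma isTP_smul {F : MvPolynomial (Fin 4) K} (hF : F.IsHomogeneous 3) {b : Fin 4 → K} (h : IsTP F b) {c : K} (hc : c ≠ 0) :
    IsTP F (c • b) := by
  obtain ⟨L₁, L₂, L₃, h1, h2, h3, hI⟩ := h
  refine ⟨L₁, L₂, L₃, h1, h2, h3, ?_⟩
  have hg : ∀ i, grad F (c • b) i = c ^ 2 * grad F b i := fun i => by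
    simp only [grad]
    rw [eval_eq', eval_eq', Finset.mul_sum]
    refine Finset.sum_congr rfl fun μ hμ => ?_
    have hdeg : μ.degree = 2 := by
      by_contra hne
      exact mem_support_iff.mp hμ ((hF.pderiv (i := i)).coeff_eq_zero hne)
    simp only [Pi.smul_apply, smul_eq_mul, mul_pow, Finset.prod_mul_distrib]
    rw [Finset.prod_pow_eq_pow_sum, ← hdeg, Finsupp.degree_eq_sum]
    ring
  have hspan : (∑ i : Fin 4, C (grad F (c • b) i) * X i : MvPolynomial (Fin 4) K) = C (c ^ 2) * ∑ i, C (grad F b i) * X i := by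
    simp only [hg, map_mul, Finset.mul_sum, mul_assoc]
  rw [hspan, Ideal.span_singleton_mul_left_unit ((IsUnit.mk0 _ (pow_ne_zero 2 hc)).map C)]
  exact hI

/-- Five points when the given point is smooth and not a T-point. -/
theorem five_smooth (F : MvPolynomial (Fin 4) k) (hF : F.IsHomogeneous 3) (a : Fin 4 → k) (ha : a ≠ 0)
    (hFa : eval a F = 0) (hsm : grad F a ≠ 0)
    (hnt : ¬ IsTP (MvPolynomial.map (algebraMap k K) F) (fun t => algebraMap k K (a t))) :
    ∃ p : Fin 5 → (Fin 4 → k), p 0 = a ∧ (∀ j : Fin 5, eval (p j) F = 0) ∧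
      ∀ j : Fin 5, LinearIndependent k (fun i : Fin 4 => p (j.succAbove i)) := by
  classical
  haveI : CharZero K := charZero_of_injective_algebraMap (algebraMap k K).injective
  obtain ⟨z, Q, hQ, hzS, hzl, hzQ⟩ := exists_chart_curve (K := K) F hF a ha hFa hsm hnt
  let ι := algebraMap k K
  set F' := MvPolynomial.map ι F with hF'
  let pt : k → Fin 4 → k := fun t i => (z i).eval t
  let ptK : k → Fin 4 → K := fun t i => ι (pt t i)
  have hgmap : ∀ (b : Fin 4 → k) i, eval (fun t => ι (b t)) (pderiv i F') = ι (grad F b i) := fun b i => grad_map F b i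
  have hgne : ∀ t, Q.eval t ≠ 0 → grad F (pt t) ≠ 0 := fun t ht h => (hzQ t ht).1 (by rw [h]; simp [dot])
  -- finitely many T-points on the tangent plane at `a`
  let tp : (Fin 4 → K) → Prop := fun b => b ≠ 0 ∧ eval b F' = 0 ∧ (∃ i : Fin 4, eval b (pderiv i F') ≠ 0) ∧ IsTP F' b
  let H : Submodule K (Fin 4 → K) := LinearMap.ker (∑ i, ι (grad F a i) • LinearMap.proj (R := K) (φ := fun _ : Fin 4 => K) i)
  have hfin := S19500.finite_tp F' (hF.map ι) tp (fun b => Iff.rfl) (fun t => ι (a t))
    (by rw [hF', eval_map_algebraMap, hFa, map_zero])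
    (by
      obtain ⟨i, hi⟩ := Function.ne_iff.mp hsm
      exact ⟨i, by rw [hgmap]; exact (map_ne_zero ι).mpr hi⟩)
    (fun h => hnt h.2.2.2) H
    (fun x => by simp [H, hgmap])
  let bad : Set k := {t | Q.eval t ≠ 0 ∧ tp (ptK t)}
  have hbad : bad.Finite := by
    refine Set.Finite.of_finite_image (f := fun t => Submodule.span K {ptK t}) (hfin.subset ?_) ?_
    · rintro _ ⟨t, ⟨htQ, htp⟩, rfl⟩
      refine ⟨finrank_span_singleton htp.1, (Submodule.span_singleton_le_iff_mem _ _).mpr ?_, fun b hb hb0 => ?_⟩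
      · have h := congrArg ι (hzS t).2
        simp [dot, map_sum] at h
        simpa [H, ptK, pt] using h
      · obtain ⟨c, rfl⟩ := Submodule.mem_span_singleton.mp hb
        have hc : c ≠ 0 := fun h => hb0 (by simp [h])
        obtain ⟨-, hF0, ⟨i, hi⟩, hTP⟩ := htp
        have hs := eval_smul_eq (hF.map ι)
        refine ⟨hb0, by rw [hs, hF0, mul_zero], ⟨i, ?_⟩, isTP_smul (hF.map ι) hTP hc⟩
        rw [eval_smul_eq ((hF.map ι).pderiv (i := i))]
        exact mul_ne_zero (pow_ne_zero _ hc) hi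
    · intro t ht t' ht' heq
      by_contra hne
      have hli := (hzQ t ht.1).2 t' ht'.1 hne
      have hnm : pt t' ∉ Submodule.span k (Set.range fun _ : Fin 1 => pt t) := by
        intro hmem
        obtain ⟨c, hc⟩ := (Submodule.mem_span_range_iff_exists_fun k).mp hmem
        have := Fintype.linearIndependent_iff.mp hli ![0, c 0, -1] (by
          simp [Fin.sum_univ_three, ← hc, pt]) 2
        simp at this
      obtain ⟨f, hf1, hf0⟩ := Submodule.exists_dual_map_eq_bot_of_notMem hnm inferInstance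
      obtain ⟨l, hl⟩ := exists_dot_eq f
      have hlt : dot l (pt t) = 0 := by
        have h : f (pt t) ∈ Submodule.map f (Submodule.span k (Set.range fun _ : Fin 1 => pt t)) :=
          Submodule.mem_map_of_mem (Submodule.subset_span ⟨0, rfl⟩)
        rw [hf0] at h
        rw [hl]
        exact (Submodule.mem_bot k).mp h
      have hmem : ptK t' ∈ Submodule.span K {ptK t} := by
        rw [show Submodule.span K {ptK t} = Submodule.span K {ptK t'} from heq]
        exact Submodule.mem_span_singleton_self _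
      obtain ⟨c, hc⟩ := Submodule.mem_span_singleton.mp hmem
      refine hf1 ?_
      rw [← hl]
      refine ι.injective ?_
      rw [map_zero]
      calc ι (dot l (pt t')) = ∑ i, ι (l i) * ptK t' i := by simp [dot, ptK, map_sum]
        _ = c * ι (dot l (pt t)) := by
          rw [← hc]; simp [dot, ptK, map_sum, Finset.mul_sum, mul_left_comm]
        _ = 0 := by rw [hlt, map_zero, mul_zero]
  obtain ⟨tb, htb, hQb⟩ := exists_good Q hQ bad hbad
  set b := pt tb
  have hFb : eval b F = 0 := (hzS tb).1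
  have hgba : dot (grad F b) a ≠ 0 := (hzQ tb hQb).1
  have hb0 : b ≠ 0 := fun h => hgba (by
    have : grad F b = 0 := funext fun i => by
      rw [grad, h, eval_zero, constantCoeff_eq]
      exact (hF.pderiv (i := i)).coeff_eq_zero (by simp)
    rw [this]; simp [dot])
  have hntb : ¬ IsTP F' (ptK tb) := fun h => htb ⟨hQb, by
    intro h0
    exact hb0 (funext fun i => by simpa [ptK, b] using congrFun h0 i),
    by rw [hF']; show eval (fun i => ι (pt tb i)) _ = 0; rw [eval_map_algebraMap, (hzS tb).1, map_zero],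
    by
      obtain ⟨i, hi⟩ := Function.ne_iff.mp (hgne tb hQb)
      exact ⟨i, by show eval (fun s => ι (pt tb s)) _ ≠ 0; rw [hgmap]; exact (map_ne_zero ι).mpr hi⟩, h⟩
  obtain ⟨z', Q', hQ', hzS', hzl', hzQ'⟩ := exists_chart_curve (K := K) F hF b hb0 hFb (hgne tb hQb) hntb
  have hga : dot (grad F a) a = 0 := by
    have h := congrArg (eval a) hF.sum_X_mul_pderiv
    rw [map_sum, map_nsmul, hFa, smul_zero] at h
    rw [dot, ← h]
    exact Finset.sum_congr rfl fun i _ => by simp [grad, mul_comm]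
  have hb_a : ∀ c : k, grad F b ≠ c • grad F a := fun c h => hgba (by
    rw [h]; simp [dot, mul_assoc, ← Finset.mul_sum] ; exact Or.inr hga)
  have ha_b : ∀ c : k, grad F a ≠ c • grad F b := fun c h => by
    have h1 : c * dot (grad F b) a = 0 := by
      rw [← hga, h]; simp [dot, mul_assoc, Finset.mul_sum]
    rw [(mul_eq_zero.mp h1).resolve_right hgba, zero_smul] at h
    exact hsm h
  have heval : ∀ (l : Fin 4 → k) (z : Fin 4 → Polynomial k) (t : k),
      (∑ i, Polynomial.C (l i) * z i).eval t = dot l (fun i => (z i).eval t) := fun l z t => by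
    simp [dot, Polynomial.eval_finsetSum]
  let P1 := Q * ∑ i, Polynomial.C (grad F b i) * z i
  have hP1 : P1 ≠ 0 := mul_ne_zero hQ (hzl _ hb_a)
  obtain ⟨t1, -, h1⟩ := exists_good P1 hP1 ∅ Set.finite_empty
  obtain ⟨t2, h12, h2⟩ := exists_good P1 hP1 {t1} (Set.finite_singleton t1)
  rw [Polynomial.eval_mul, mul_ne_zero_iff, heval] at h1 h2
  obtain ⟨t3, -, h3⟩ := exists_good (∑ i, Polynomial.C (grad F a i) * z' i) (hzl' _ ha_b) ∅ Set.finite_empty
  rw [heval] at h3
  have hli3 := (hzQ t1 h1.1).2 t2 h2.1 (fun h => h12 (by simpa using h.symm))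
  set p3 : Fin 4 → k := fun i => (z' i).eval t3
  have hli4 : LinearIndependent k (Fin.snoc ![a, pt t1, pt t2] p3 : Fin 4 → Fin 4 → k) :=
    linearIndependent_fin_snoc.mpr ⟨hli3, notMem_span_of_dot _ (grad F a) _ (fun i => by
      fin_cases i
      · exact hga
      · exact (hzS t1).2
      · exact (hzS t2).2) h3⟩
  have hF4 : ∀ i, eval ((Fin.snoc ![a, pt t1, pt t2] p3 : Fin 4 → Fin 4 → k) i) F = 0 := fun i => by
    cases i using Fin.lastCases with
    | last => rw [Fin.snoc_last]; exact (hzS' t3).1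
    | cast i =>
      rw [Fin.snoc_castSucc]
      fin_cases i
      · exact hFa
      · exact (hzS t1).1
      · exact (hzS t2).1
  obtain ⟨p, hp0, hp⟩ := five_of_li F hli4 hF4 fun ls hls => by
    have hne : ∀ i, ∑ s, Polynomial.C (ls i s) * z' s ≠ 0 := fun i => hzl' _ fun c hc => by
      obtain ⟨j, hj, hgb⟩ : ∃ j, j ≠ i ∧ dot (grad F b) ((Fin.snoc ![a, pt t1, pt t2] p3 : Fin 4 → Fin 4 → k) j) ≠ 0 := by
        by_cases hi : i = 0
        · exact ⟨1, by rw [hi]; decide, h1.2⟩
        · exact ⟨0, fun h => hi h.symm, hgba⟩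
      have h0 := (hls i).2.2 j hj
      rw [hc] at h0
      have h1 : c * dot (grad F b) ((Fin.snoc ![a, pt t1, pt t2] p3 : Fin 4 → Fin 4 → k) j) = 0 := by
        rw [← h0]; simp [dot, mul_assoc, Finset.mul_sum]
      rcases mul_eq_zero.mp h1 with h2 | h2
      · exact (hls i).1 (by rw [hc, h2, zero_smul])
      · exact hgb h2
    obtain ⟨t, -, ht⟩ := exists_good (∏ i, ∑ s, Polynomial.C (ls i s) * z' s) (Finset.prod_ne_zero_iff.mpr fun i _ => hne i) ∅ Set.finite_empty
    rw [Polynomial.eval_prod, Finset.prod_ne_zero_iff] at ht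
    exact ⟨_, (hzS' t).1, fun i => by rw [← heval]; exact ht i (Finset.mem_univ i)⟩
  exact ⟨p, hp0.trans rfl, hp⟩

/-- Five rational points in general position, one of them the given point. -/
theorem five_points (F : MvPolynomial (Fin 4) k) (hF : F.IsHomogeneous 3)
    (hirr : Irreducible (MvPolynomial.map (algebraMap k K) F))
    (hcone : ¬ ∃ v : Fin 4 → k, v ≠ 0 ∧ ∑ i : Fin 4, v i • pderiv i F = 0)
    (a : Fin 4 → k) (ha : a ≠ 0) (hFa : eval a F = 0)
    (hnt : grad F a = 0 ∨ ¬ IsTP (MvPolynomial.map (algebraMap k K) F) (fun t => algebraMap k K (a t))) :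
    ∃ p : Fin 5 → (Fin 4 → k), p 0 = a ∧ (∀ j : Fin 5, eval (p j) F = 0) ∧
      ∀ j : Fin 5, LinearIndependent k (fun i : Fin 4 => p (j.succAbove i)) := by
  by_cases hsing : grad F a = 0
  · exact five_singular (K := K) F hF hirr hcone a ha hFa hsing
  · exact five_smooth (K := K) F hF a ha hFa hsing (hnt.resolve_left hsing)

end Groth.Agent.CubicTPLib
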