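import Mathlib

/-! An explicit Pfaffian representation of a cubic through five points in standard position. -/

set_option autoImplicit false
universe u

namespace Groth.Agent.CubicTPLib

variable {R : Type u} [CommRing R]

/-- The skew matrix of five quadrics bordered by five linear forms. -/
def pfMat (x : Fin 4 → R) (l : Fin 5 → R) : Matrix (Fin 6) (Fin 6) R :=
  !![0, x 3, -x 2, -x 3, x 2, l 0;
     -x 3, 0, x 1, x 3, 0, l 1;
     x 2, -x 1, 0, 0, -x 2, l 2;
     x 3, -x 3, 0, 0, -x 0, l 3;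
     -x 2, 0, x 2, x 0, 0, l 4;
     -l 0, -l 1, -l 2, -l 3, -l 4, 0]

/-- The combination of the five quadrics. -/
def pfSum (x : Fin 4 → R) (l : Fin 5 → R) : R :=
  l 0 * (x 0 * x 1 - x 2 * x 3) + l 1 * (x 0 * x 2 - x 2 * x 3) + l 2 * (x 0 * x 3 - x 2 * x 3) +
    l 3 * (x 1 * x 2 - x 2 * x 3) + l 4 * (x 1 * x 3 - x 2 * x 3)

set_option maxHeartbeats 4000000 in
theorem det_pfMat (x : Fin 4 → R) (l : Fin 5 → R) : (pfMat x l).det = pfSum x l ^ 2 := by
  simp only [pfMat, pfSum]
  rw [Matrix.det_succ_row_zero]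
  simp [Fin.sum_univ_succ, Fin.succAbove]
  simp [Matrix.det_succ_row_zero, Fin.sum_univ_succ, Fin.succAbove]
  ring

end Groth.Agent.CubicTPLib
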