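import Mathlib
import Groth.Agent.CubicTPLib.Pfaff

/-! Linear Pfaffian representations from five points in general position. -/

set_option autoImplicit false
universe u

namespace Groth.Agent.CubicTPLib

open MvPolynomial

variable {K : Type u} [Field K]

lemma pfMat_entries {R : Type*} [CommRing R] (P : R → Prop) (h0 : P 0) (hn : ∀ r, P r → P (-r)) {x : Fin 4 → R}
    {l : Fin 5 → R} (hx : ∀ i, P (x i)) (hl : ∀ i, P (l i)) (i j : Fin 6) : P (pfMat x l i j) := by
  fin_cases i <;> fin_cases j <;> simp [pfMat, h0, hx, hl, hn]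

/-- Cubics in the ideal of the five standard points. -/
noncomputable def pfSpan : Submodule K (MvPolynomial (Fin 4) K) where
  carrier := {P | ∃ l : Fin 5 → MvPolynomial (Fin 4) K, (∀ i, (l i).IsHomogeneous 1) ∧ P = pfSum X l}
  add_mem' := by
    rintro _ _ ⟨l, hl, rfl⟩ ⟨l', hl', rfl⟩
    exact ⟨fun i => l i + l' i, fun i => (hl i).add (hl' i), by simp only [pfSum]; ring⟩
  zero_mem' := ⟨fun _ => 0, fun _ => isHomogeneous_zero _ _ _, by simp [pfSum]⟩
  smul_mem' := by
    rintro c _ ⟨l, hl, rfl⟩
    exact ⟨fun i => C c * l i, fun i => (hl i).C_mul c, by simp only [pfSum, smul_eq_C_mul]; ring⟩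

lemma single_mem_pfSpan (m : Fin 5) (L : MvPolynomial (Fin 4) K) (hL : L.IsHomogeneous 1) :
    pfSum X (fun i => if i = m then L else 0) ∈ (pfSpan : Submodule K (MvPolynomial (Fin 4) K)) := by
  refine ⟨_, fun i => ?_, rfl⟩
  split_ifs
  · exact hL
  · exact isHomogeneous_zero _ _ _

lemma quad_mem (t i j : Fin 4) (h : i ≠ j) :
    (X t * (X i * X j - X 2 * X 3) : MvPolynomial (Fin 4) K) ∈ (pfSpan : Submodule K (MvPolynomial (Fin 4) K)) := by
  have hm : ∀ m : Fin 5, pfSum X (fun s => if s = m then (X t : MvPolynomial (Fin 4) K) else 0) ∈ pfSpan :=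
    fun m => single_mem_pfSpan m _ (isHomogeneous_X K t)
  have h0 := hm 0
  have h1 := hm 1
  have h2 := hm 2
  have h3 := hm 3
  have h4 := hm 4
  simp [pfSum] at h0 h1 h2 h3 h4
  fin_cases i <;> fin_cases j <;> first
    | exact absurd rfl h
    | (convert h0 using 1; simp <;> ring1)
    | (convert h1 using 1; simp <;> ring1)
    | (convert h2 using 1; simp <;> ring1)
    | (convert h3 using 1; simp <;> ring1)
    | (convert h4 using 1; simp <;> ring1)
    | (convert Submodule.zero_mem _ using 1; simp <;> ring1)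

lemma cubic_congr (i j t : Fin 4) (h : i ≠ j) :
    (X t * X i * X j - X 2 * X 2 * X 3 : MvPolynomial (Fin 4) K) ∈ (pfSpan : Submodule K (MvPolynomial (Fin 4) K)) := by
  have hk : ∀ s : Fin 4, (X s * X 2 * X 3 - X 2 * X 2 * X 3 : MvPolynomial (Fin 4) K) ∈ (pfSpan : Submodule K (MvPolynomial (Fin 4) K)) := by
    intro s
    fin_cases s
    · convert quad_mem (K := K) 2 0 3 (by decide) using 1
      show X 0 * X 2 * X 3 - _ = _
      ring
    · convert quad_mem (K := K) 2 1 3 (by decide) using 1
      show X 1 * X 2 * X 3 - _ = _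
      ring
    · show (X 2 * X 2 * X 3 - X 2 * X 2 * X 3 : MvPolynomial (Fin 4) K) ∈ pfSpan
      rw [sub_self]; exact Submodule.zero_mem _
    · convert Submodule.sub_mem _ (quad_mem (K := K) 2 0 3 (by decide)) (quad_mem (K := K) 3 0 2 (by decide)) using 1
      show X 3 * X 2 * X 3 - _ = _
      ring
  convert Submodule.add_mem _ (quad_mem (K := K) t i j h) (hk t) using 1
  ring

/-- Decomposition of a cubic through the five standard points. -/
theorem exists_pfSum {F : MvPolynomial (Fin 4) K} (hF : F.IsHomogeneous 3) (hv : ∀ i, eval (Pi.single i 1) F = 0)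
    (h1 : eval (fun _ => 1) F = 0) : ∃ l : Fin 5 → MvPolynomial (Fin 4) K, (∀ i, (l i).IsHomogeneous 1) ∧ F = pfSum X l := by
  classical
  show F ∈ (pfSpan : Submodule K (MvPolynomial (Fin 4) K))
  have hsum : ∑ μ ∈ F.support, coeff μ F = 0 := by
    rw [← h1, eval_eq']
    exact Finset.sum_congr rfl fun μ _ => by simp
  have hkey : F = ∑ μ ∈ F.support, coeff μ F • (monomial μ 1 - X 2 * X 2 * X 3) := by
    simp only [smul_sub, Finset.sum_sub_distrib, ← Finset.sum_smul, hsum, zero_smul, sub_zero]
    conv_lhs => rw [as_sum F]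
    exact Finset.sum_congr rfl fun μ _ => by rw [smul_monomial, smul_eq_mul, mul_one]
  rw [hkey]
  refine Submodule.sum_mem _ fun μ hμ => Submodule.smul_mem _ _ ?_
  have hdeg : μ.degree = 3 := by
    by_contra hne
    exact mem_support_iff.mp hμ (hF.coeff_eq_zero hne)
  have hcard : Multiset.card (Finsupp.toMultiset μ) = 3 := by
    rw [Finsupp.card_toMultiset, ← hdeg, Finsupp.degree_apply]
    rfl
  obtain ⟨x, y, z, hxyz⟩ := Multiset.card_eq_three.mp hcard
  have hμe : μ = Finsupp.single x 1 + Finsupp.single y 1 + Finsupp.single z 1 := by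
    rw [← Finsupp.toMultiset_toFinsupp μ, hxyz]
    simp [Multiset.insert_eq_cons, ← Multiset.singleton_add, add_assoc]
  have hmon : (monomial μ 1 : MvPolynomial (Fin 4) K) = X x * X y * X z := by
    rw [hμe, X, X, X, monomial_mul, monomial_mul, one_mul, one_mul]
  rw [hmon]
  by_cases hyz : y = z
  · by_cases hxy : x = y
    · exfalso
      subst hyz hxy
      refine mem_support_iff.mp hμ ?_
      have := hv x
      rw [eval_eq', Finset.sum_eq_single μ (fun ν hν hne => ?_) (fun h => absurd hμ h)] at this
      · rw [Finset.prod_eq_one (fun s _ => ?_), mul_one] at this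
        · exact this
        by_cases hs : s = x
        · subst hs; simp
        · simp [hμe, hs, Finsupp.single_eq_of_ne hs]
      · obtain ⟨s, hs⟩ : ∃ s, s ≠ x ∧ ν s ≠ 0 := by
          by_contra hno
          push Not at hno
          refine hne (Finsupp.ext fun s => ?_)
          have hνd : ν.degree = 3 := by
            by_contra h
            exact mem_support_iff.mp hν (hF.coeff_eq_zero h)
          by_cases hs : s = x
          · subst hs
            rw [Finsupp.degree_eq_sum, Finset.sum_eq_single s (fun t _ ht => hno t ht) (fun h => absurd (Finset.mem_univ s) h)] at hνd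
            simp [hμe, hνd]
          · simp [hμe, hno s hs, Finsupp.single_eq_of_ne hs]
        rw [Finset.prod_eq_zero (Finset.mem_univ s) (by rw [Pi.single_eq_of_ne hs.1, zero_pow hs.2]), mul_zero]
    · convert cubic_congr (K := K) x y z hxy using 1
      ring
  · exact cubic_congr y z x hyz

/-- A linear Pfaffian representation from five points in general position. -/
theorem exists_rep_of_five {F : MvPolynomial (Fin 4) K} (hF : F.IsHomogeneous 3) (p : Fin 5 → (Fin 4 → K))
    (hp : ∀ j, eval (p j) F = 0) (hgen : ∀ j : Fin 5, LinearIndependent K (fun i : Fin 4 => p (j.succAbove i))) :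
    ∃ M : Matrix (Fin 6) (Fin 6) (MvPolynomial (Fin 4) K), (∀ i j, (M i j).IsHomogeneous 1) ∧ M.transpose = -M ∧
      (∀ i, M i i = 0) ∧ ∃ c : K, c ≠ 0 ∧ M.det = C c * F ^ 2 := by
  classical
  have h4 : LinearIndependent K (fun i : Fin 4 => p i.castSucc) := by
    have := hgen (Fin.last 4)
    simpa only [Fin.succAbove_last] using this
  have hcard : Fintype.card (Fin 4) = Module.finrank K (Fin 4 → K) := by simp
  let B := basisOfLinearIndependentOfCardEqFinrank h4 hcard
  have hB : ∀ i, B i = p i.castSucc := fun i => by simp [B]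
  let c : Fin 4 → K := fun i => B.repr (p (Fin.last 4)) i
  have hexp : p (Fin.last 4) = ∑ i, c i • p i.castSucc := by
    simp only [← hB, c]
    exact (B.sum_repr _).symm
  have hc : ∀ i, c i ≠ 0 := by
    intro i h0
    have := Fintype.linearIndependent_iff.mp (hgen i.castSucc)
      (fun s => if h : i.castSucc.succAbove s = Fin.last 4 then -1 else c ((i.castSucc.succAbove s).castPred h)) ?_ 3
    · simp [show i.castSucc.succAbove (3 : Fin 4) = Fin.last 4 from Fin.succAbove_of_le_castSucc _ _ (by simp [Fin.le_def]; omega)] at this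
    · let f : Fin 5 → (Fin 4 → K) := fun j => (if h : j = Fin.last 4 then (-1 : K) else c (j.castPred h)) • p j
      have e1 : ∑ j, f j = 0 := by
        rw [Fin.sum_univ_castSucc]
        simp only [f, dif_pos, dif_neg (Fin.castSucc_ne_last _), Fin.castPred_castSucc]
        rw [hexp, neg_one_smul, add_neg_cancel]
      rw [Fin.sum_univ_succAbove f i.castSucc] at e1
      have e2 : f i.castSucc = 0 := by
        simp only [f, dif_neg (Fin.castSucc_ne_last _), Fin.castPred_castSucc, h0, zero_smul]
      rw [e2, zero_add] at e1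
      exact e1
  let B' : Module.Basis (Fin 4) K (Fin 4 → K) := B.unitsSMul fun i => Units.mk0 (c i) (hc i)
  have hB' : ∀ i, B' i = c i • p i.castSucc := fun i => by simp [B', hB, Module.Basis.unitsSMul_apply, Units.smul_def]
  let sub : Fin 4 → MvPolynomial (Fin 4) K := fun t => ∑ i, C (B' i t) * X i
  let inv : Fin 4 → MvPolynomial (Fin 4) K := fun i => ∑ s, C (B'.repr (Pi.single s 1) i) * X s
  have hsub : ∀ t, (sub t).IsHomogeneous 1 := fun t => IsHomogeneous.sum _ _ _ fun i _ => isHomogeneous_C_mul_X _ _
  have hinvh : ∀ t, (inv t).IsHomogeneous 1 := fun t => IsHomogeneous.sum _ _ _ fun i _ => isHomogeneous_C_mul_X _ _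
  have hev : ∀ x, eval x (aeval sub F) = eval (∑ i, x i • B' i) F := fun x => by
    have := comp_aeval_apply sub (aeval (R := K) x) F
    simp only [aeval_eq_eval] at this
    rw [this]
    exact congrArg (fun f => eval f F) (funext fun t => by simp [sub, mul_comm, Finset.sum_apply])
  have hF' : (aeval sub F).IsHomogeneous 3 := by
    have := hF.aeval (n := 1) sub hsub
    rwa [one_mul] at this
  obtain ⟨l, hl, hlF⟩ := exists_pfSum hF' (fun i => by
    rw [hev, Finset.sum_eq_single i (fun s _ hs => by simp [Pi.single_eq_of_ne hs]) (fun h => absurd (Finset.mem_univ i) h),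
      Pi.single_eq_same, one_smul, hB']
    have h := hp i.castSucc
    rw [eval_eq'] at h ⊢
    have hh : ∀ μ ∈ F.support, coeff μ F * ∏ t, (c i • p i.castSucc) t ^ μ t =
        c i ^ 3 * (coeff μ F * ∏ t, p i.castSucc t ^ μ t) := fun μ hμ => by
      have hdeg : μ.degree = 3 := by
        by_contra hne
        exact mem_support_iff.mp hμ (hF.coeff_eq_zero hne)
      simp only [Pi.smul_apply, smul_eq_mul, mul_pow, Finset.prod_mul_distrib]
      rw [Finset.prod_pow_eq_pow_sum, ← Finsupp.degree_eq_sum, hdeg]
      ring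
    rw [Finset.sum_congr rfl hh, ← Finset.mul_sum, h, mul_zero]) (by
    rw [hev]
    simp only [one_smul, hB', ← hexp]
    exact hp _)
  have hback : aeval inv (aeval sub F) = F := by
    rw [comp_aeval_apply]
    conv_rhs => rw [← aeval_X_left_apply F]
    refine congrArg (fun f => aeval f F) (funext fun t => ?_)
    have h : ∀ i, aeval inv (C (B' i t) * X i) = C (B' i t) * inv i := fun i => by
      rw [map_mul, aeval_C, aeval_X, algebraMap_eq]
    rw [map_sum, Finset.sum_congr rfl fun i _ => h i]
    simp only [inv, Finset.mul_sum, ← mul_assoc, ← map_mul]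
    rw [Finset.sum_comm]
    have hs : ∀ s, ∑ i, B' i t * B'.repr (Pi.single s 1) i = (Pi.single s (1 : K) : Fin 4 → K) t := fun s => by
      have := congrFun (B'.sum_repr (Pi.single s 1)) t
      simpa [Finset.sum_apply, mul_comm] using this
    simp only [← Finset.sum_mul, ← map_mul, ← map_sum, hs]
    simp [Pi.single_apply]
  let φ : MvPolynomial (Fin 4) K →ₐ[K] MvPolynomial (Fin 4) K := aeval inv
  refine ⟨pfMat inv (fun i => φ (l i)), fun i j => ?_, ?_, fun i => ?_, 1, one_ne_zero, ?_⟩
  · have hl' : ∀ s, (φ (l s)).IsHomogeneous 1 := fun s => by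
      have := (hl s).aeval (n := 1) inv hinvh
      rwa [one_mul] at this
    exact pfMat_entries (fun P : MvPolynomial (Fin 4) K => P.IsHomogeneous 1) (isHomogeneous_zero _ _ _) (fun P hP => hP.neg) hinvh hl' i j
  · refine Matrix.ext fun i j => ?_
    fin_cases i <;> fin_cases j <;> simp [pfMat]
  · fin_cases i <;> simp [pfMat]
  · rw [det_pfMat, map_one, one_mul]
    congr 1
    conv_rhs => rw [← hback, hlF]
    simp [pfSum, φ]

end Groth.Agent.CubicTPLib
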