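import Mathlib
import Groth.Agent.CubicTPLib.Bad
import Groth.Agent.CubicTPLib.FivePoints
import Groth.Agent.CubicTPLib.Repr
import Groth.Agent.S19500

/-! A line on which the cubic has only points which are not T-points, and the Pfaffian representation over them. -/

set_option autoImplicit false
universe u v w

namespace Groth.Agent.CubicTPLib

open MvPolynomial

section tests

variable {R : Type u} [CommRing R]

/-- The section by the plane of a functional in a frame, in any ring. -/
noncomputable def secR (F : MvPolynomial (Fin 4) R) (g : Fin 4 → R) (e : Fin 3 → Fin 4 → R) (z : Fin 4 → R) :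
    MvPolynomial (Fin 3) R :=
  aeval (fun t => lin fun i => (∑ j, g j * z j) * e i t - (∑ j, g j * e i j) * z t) F

/-- Proportionality test of the Hessian of the section. -/
noncomputable def tpTest (F : MvPolynomial (Fin 4) R) (g : Fin 4 → R) (e : Fin 3 → Fin 4 → R) (z : Fin 4 → R)
    (x y : Fin 3 → R) : R :=
  eval x (hess (secR F g e z)) * eval y (secR F g e z) - eval y (hess (secR F g e z)) * eval x (secR F g e z)

variable {S : Type v} [CommRing S] (f : R →+* S)

lemma map_secR (F : MvPolynomial (Fin 4) R) (g : Fin 4 → R) (e : Fin 3 → Fin 4 → R) (z : Fin 4 → R) :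
    MvPolynomial.map f (secR F g e z) =
      secR (MvPolynomial.map f F) (fun j => f (g j)) (fun i t => f (e i t)) (fun t => f (z t)) := by
  rw [secR, secR]
  induction F using MvPolynomial.induction_on with
  | C c => simp
  | add p q hp hq => simp only [map_add, hp, hq]
  | mul_X p t hp =>
    simp only [map_mul, aeval_X, map_X, hp]
    simp [lin]

lemma map_hess' (P : MvPolynomial (Fin 3) R) : MvPolynomial.map f (hess P) = hess (MvPolynomial.map f P) := by
  rw [hess, hess, RingHom.map_det]
  congr 1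
  ext i j : 1
  simp only [RingHom.mapMatrix_apply, Matrix.map_apply, Matrix.of_apply, pderiv_map]

lemma map_tpTest (F : MvPolynomial (Fin 4) R) (g : Fin 4 → R) (e : Fin 3 → Fin 4 → R) (z : Fin 4 → R) (x y : Fin 3 → R) :
    f (tpTest F g e z x y) = tpTest (MvPolynomial.map f F) (fun j => f (g j)) (fun i t => f (e i t)) (fun t => f (z t))
      (fun i => f (x i)) (fun i => f (y i)) := by
  have hev : ∀ (x : Fin 3 → R) (P : MvPolynomial (Fin 3) R), f (eval x P) = eval (fun i => f (x i)) (MvPolynomial.map f P) :=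
    fun x P => by rw [eval_map]; exact eval₂_comp f x P
  simp only [tpTest, map_sub, map_mul, hev, map_hess', map_secR]

end tests

section field

variable {K : Type u} [Field K]

lemma tpTest_eq_zero (F : MvPolynomial (Fin 4) K) (b : Fin 4 → K) (hb : IsTP F b) (e : Fin 3 → Fin 4 → K)
    (z : Fin 4 → K) (x y : Fin 3 → K) : tpTest F (grad F b) e z x y = 0 := by
  obtain ⟨L₁, L₂, L₃, h1, h2, h3, hI⟩ := hb
  obtain ⟨p, q, r, h⟩ := S19500.sec_lines_of_tp F e z b L₁ L₂ L₃ h1 h2 h3 hI
  have hS : secR F (grad F b) e z = lin p * lin q * lin r := h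
  rw [tpTest, hS, hess_product]
  simp only [map_mul, eval_C]
  ring

variable [IsAlgClosed K] [CharZero K]

lemma exists_tpTest_ne_zero (F : MvPolynomial (Fin 4) K) (hF : F.IsHomogeneous 3) (b : Fin 4 → K) (hb : eval b F = 0)
    (hg : grad F b ≠ 0) (hnt : ¬ IsTP F b) :
    ∃ (e : Fin 3 → Fin 4 → K) (z : Fin 4 → K) (x y : Fin 3 → K), tpTest F (grad F b) e z x y ≠ 0 := by
  have hb0 : b ≠ 0 := by
    rintro rfl
    refine hg (funext fun i => ?_)
    rw [grad, eval_zero, constantCoeff_eq]
    exact (hF.pderiv (i := i)).coeff_eq_zero (by simp)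
  have hga : dot (grad F b) b = 0 := by
    have h := congrArg (eval b) hF.sum_X_mul_pderiv
    rw [map_sum, map_nsmul, hb, smul_zero] at h
    rw [dot, ← h]
    exact Finset.sum_congr rfl fun i _ => by simp [grad, mul_comm]
  obtain ⟨e, z, he0, heH, hz, hdec, -⟩ := exists_frame (grad F b) b hg hb0 hga
  have hnl : NotLines (planeSec F e) := by
    have h := notLines_planeSec (k := K) (K := K) F b e z hdec (by simpa [Algebra.algebraMap_self, MvPolynomial.map_id] using hnt)
    simpa [Algebra.algebraMap_self, MvPolynomial.map_id] using h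
  have hsum : (∑ i, (![1, 0, 0] : Fin 3 → K) i • e i) = b := by simp [Fin.sum_univ_three, he0]
  obtain ⟨⟨x, y, hxy⟩, -⟩ := singular_cubic (isHomogeneous_planeSec hF e) (by rw [eval_planeSec, hsum, hb])
    (fun i => by rw [eval_pderiv_planeSec, hsum]; exact heH i) hnl
  have hS : secR F (grad F b) e z = planeSec F e := by
    refine congrArg (fun g => aeval g F) (funext fun t => congrArg lin (funext fun i => ?_))
    rw [show ∑ j, grad F b j * z j = 1 from hz, show ∑ j, grad F b j * e i j = 0 from heH i, one_mul, zero_mul, sub_zero]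
  refine ⟨e, z, x, y, ?_⟩
  rw [tpTest, hS]
  exact sub_ne_zero.mpr hxy

end field

variable {k : Type u} [Field k] [CharZero k] {K : Type v} [Field K] [Algebra k K] [IsAlgClosed K]

omit [CharZero k] [IsAlgClosed K] in
/-- Independence of the partial derivatives is preserved by extensions. -/
theorem ncone_map (F : MvPolynomial (Fin 4) k)
    (hcone : ¬ ∃ v : Fin 4 → k, v ≠ 0 ∧ ∑ i : Fin 4, v i • pderiv i F = 0)
    (v : Fin 4 → K) (hv : ∑ i : Fin 4, v i • pderiv i (MvPolynomial.map (algebraMap k K) F) = 0) : v = 0 := by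
  classical
  funext i
  refine (Module.forall_dual_apply_eq_zero_iff k (v i)).mp fun f => ?_
  by_contra hne
  refine hcone ⟨fun j => f (v j), fun h => hne (congrFun h i), MvPolynomial.ext _ _ fun μ => ?_⟩
  have h := congrArg f (congrArg (coeff μ) hv)
  simp only [coeff_sum, coeff_smul, pderiv_map, coeff_map, map_sum, smul_eq_mul, coeff_zero, map_zero] at h
  simp only [coeff_sum, coeff_smul, smul_eq_mul, coeff_zero]
  refine Eq.trans (Finset.sum_congr rfl fun j _ => ?_) h
  rw [← Algebra.commutes, ← Algebra.smul_def, map_smul, smul_eq_mul, mul_comm]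

/-- The polynomial off the T-points. -/
theorem exists_test (F : MvPolynomial (Fin 4) k) (hF : F.IsHomogeneous 3)
    (hirr : Irreducible (MvPolynomial.map (algebraMap k K) F))
    (hcone : ¬ ∃ v : Fin 4 → k, v ≠ 0 ∧ ∑ i : Fin 4, v i • pderiv i F = 0) :
    ∃ P : MvPolynomial (Fin 4) k, ¬ F ∣ P ∧
      ∀ a : Fin 4 → K, aeval a P ≠ 0 → a ≠ 0 ∧ ¬ IsTP (MvPolynomial.map (algebraMap k K) F) a := by
  classical
  haveI : CharZero K := charZero_of_injective_algebraMap (algebraMap k K).injective
  let ι := algebraMap k K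
  set F' := MvPolynomial.map ι F with hF'
  have hF'h : F'.IsHomogeneous 3 := hF.map ι
  obtain ⟨b, hb, hg, hnt⟩ : ∃ b, eval b F' = 0 ∧ grad F' b ≠ 0 ∧ ¬ IsTP F' b := by
    by_contra hno
    push Not at hno
    refine not_bad F' ⟨hF'h, hirr, fun v hv => ncone_map F hcone v ?_, hno⟩
    refine MvPolynomial.funext fun x => ?_
    have := hv x
    simp only [dotProduct, grad] at this
    simp [map_sum, MvPolynomial.smul_eval, ← this, mul_comm, F', ι]
  obtain ⟨e, z, x, y, hne⟩ := exists_tpTest_ne_zero F' hF'h b hb hg hnt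
  -- parameters can be taken in `k`
  let I := (Fin 3 × Fin 4) ⊕ (Fin 4 ⊕ (Fin 3 ⊕ Fin 3))
  let T : MvPolynomial I K := tpTest (MvPolynomial.map C F') (fun j => C (grad F' b j)) (fun i t => X (.inl (i, t)))
    (fun t => X (.inr (.inl t))) (fun i => X (.inr (.inr (.inl i)))) (fun i => X (.inr (.inr (.inr i))))
  have hT : ∀ σ : I → K, eval σ T = tpTest F' (grad F' b) (fun i t => σ (.inl (i, t))) (fun t => σ (.inr (.inl t)))
      (fun i => σ (.inr (.inr (.inl i)))) (fun i => σ (.inr (.inr (.inr i)))) := fun σ => by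
    have hid : (eval σ).comp (C : K →+* MvPolynomial I K) = RingHom.id K := RingHom.ext fun c => eval_C _
    simp only [T]
    rw [map_tpTest, MvPolynomial.map_map, hid, MvPolynomial.map_id]
    simp
  have hT0 : T ≠ 0 := fun h => hne (by
    have := hT (Sum.elim (fun p => e p.1 p.2) (Sum.elim z (Sum.elim x y)))
    rw [h, map_zero] at this
    simpa using this.symm)
  obtain ⟨σ, hσ⟩ : ∃ σ : I → k, eval (fun i => ι (σ i)) T ≠ 0 := by
    by_contra hno
    push Not at hno
    refine hT0 (MvPolynomial.funext_set (fun _ => Set.range ι) (fun _ => Set.infinite_range_of_injective ι.injective) ?_)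
    intro s hs
    choose σ hσ using fun i => hs i (Set.mem_univ i)
    rw [map_zero, ← funext hσ]
    exact hno σ
  rw [hT] at hσ
  let P : MvPolynomial (Fin 4) k := tpTest (MvPolynomial.map C F) (fun j => pderiv j F) (fun i t => C (σ (.inl (i, t))))
    (fun t => C (σ (.inr (.inl t)))) (fun i => C (σ (.inr (.inr (.inl i))))) (fun i => C (σ (.inr (.inr (.inr i)))))
  have hP : ∀ a : Fin 4 → K, aeval a P = tpTest F' (grad F' a) (fun i t => ι (σ (.inl (i, t))))
      (fun t => ι (σ (.inr (.inl t)))) (fun i => ι (σ (.inr (.inr (.inl i))))) (fun i => ι (σ (.inr (.inr (.inr i))))) := fun a => by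
    have hid : (↑(aeval (R := k) a) : MvPolynomial (Fin 4) k →+* K).comp C = ι := RingHom.ext fun c => aeval_C _ c
    show (↑(aeval (R := k) a) : MvPolynomial (Fin 4) k →+* K) P = _
    simp only [P]
    rw [map_tpTest, MvPolynomial.map_map, hid]
    simp [F', aeval_def, ι]
    congr 1
    funext j
    rw [grad, pderiv_map, eval_map]
  refine ⟨P, ?_, fun a ha => ⟨?_, fun h => ha ?_⟩⟩
  · rintro ⟨Q, hQ⟩
    refine hσ ?_
    rw [← hP, hQ, map_mul, show aeval b F = eval b F' by rw [hF', eval_map, aeval_def], hb, zero_mul]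
  · rintro rfl
    refine ha ?_
    rw [hP]
    have h0 : grad F' (0 : Fin 4 → K) = 0 := funext fun i => by
      rw [grad, eval_zero, constantCoeff_eq]
      exact (hF'h.pderiv (i := i)).coeff_eq_zero (by simp)
    have hc : constantCoeff F' = 0 := by
      rw [constantCoeff_eq]; exact hF'h.coeff_eq_zero (by simp)
    have hl : (lin fun _ : Fin 3 => (0 : K)) = 0 := by simp [lin]
    have hS : ∀ e z, secR F' (0 : Fin 4 → K) e z = 0 := fun e z => by
      simp only [secR, Pi.zero_apply, zero_mul, Finset.sum_const_zero, sub_self, hl]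
      rw [aeval_zero', hc, map_zero]
    simp [tpTest, h0, hS]
  · rw [hP]
    exact tpTest_eq_zero F' a h _ _ _ _

section line

variable {R : Type w} [CommRing R] [Algebra k R]

/-- The restriction to a line. -/
noncomputable def linePoly (p : Fin 4 → k) (Y : Fin 4 → R) (F : MvPolynomial (Fin 4) k) : Polynomial R :=
  aeval (fun j => Polynomial.C (Y j) + Polynomial.C (algebraMap k R (p j)) * Polynomial.X) F

omit [CharZero k] in
lemma linePoly_top {F : MvPolynomial (Fin 4) k} (hF : F.IsHomogeneous 3) (p : Fin 4 → k) (Y : Fin 4 → R) :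
    (linePoly p Y F).natDegree ≤ 3 ∧ (linePoly p Y F).coeff 3 = algebraMap k R (eval p F) := by
  classical
  rw [linePoly, eval_eq']
  conv => enter [1, 1, 1, 2]; rw [as_sum F]
  conv => enter [2, 1, 1, 2]; rw [as_sum F]
  simp only [map_sum, Polynomial.finsetSum_coeff]
  have hmon : ∀ μ ∈ F.support, (aeval (R := k) (fun j => Polynomial.C (Y j) + Polynomial.C (algebraMap k R (p j)) * Polynomial.X)
        (monomial μ (coeff μ F))).natDegree ≤ 3 ∧
      (aeval (R := k) (fun j => Polynomial.C (Y j) + Polynomial.C (algebraMap k R (p j)) * Polynomial.X)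
        (monomial μ (coeff μ F))).coeff 3 = algebraMap k R (coeff μ F * ∏ i, p i ^ μ i) := by
    intro μ hμ
    have hdeg : μ 0 + μ 1 + μ 2 + μ 3 = 3 := by
      have : μ.degree = 3 := by
        by_contra hne
        exact mem_support_iff.mp hμ (hF.coeff_eq_zero hne)
      rwa [Finsupp.degree_eq_sum, Fin.sum_univ_four] at this
    let L : Fin 4 → Polynomial R := fun j => Polynomial.C (Y j) + Polynomial.C (algebraMap k R (p j)) * Polynomial.X
    have hL : ∀ j m, (L j ^ m).natDegree ≤ m ∧ (L j ^ m).coeff m = algebraMap k R (p j) ^ m := fun j m => by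
      have h1 : (L j).natDegree ≤ 1 := by
        refine Polynomial.natDegree_add_le_of_degree_le ?_ (Polynomial.natDegree_C_mul_X_pow_le _ 1 |>.trans_eq' (by rw [pow_one]))
        simp
      refine ⟨Polynomial.natDegree_pow_le.trans (by simpa using Nat.mul_le_mul_left m h1), ?_⟩
      have := Polynomial.coeff_pow_of_natDegree_le (m := m) h1
      rw [mul_one] at this
      rw [this]
      simp [L, Polynomial.coeff_C]
    rw [aeval_monomial, Finsupp.prod_fintype _ _ (fun i => pow_zero _), Fin.prod_univ_four, Fin.prod_univ_four,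
      Polynomial.algebraMap_apply]
    have h01 := Polynomial.natDegree_mul_le.trans (Nat.add_le_add (hL 0 (μ 0)).1 (hL 1 (μ 1)).1)
    have h012 := Polynomial.natDegree_mul_le.trans (Nat.add_le_add h01 (hL 2 (μ 2)).1)
    have h0123 := Polynomial.natDegree_mul_le.trans (Nat.add_le_add h012 (hL 3 (μ 3)).1)
    refine ⟨(Polynomial.natDegree_C_mul_le _ _).trans (h0123.trans_eq hdeg), ?_⟩
    have h3 : (L 0 ^ μ 0 * L 1 ^ μ 1 * L 2 ^ μ 2 * L 3 ^ μ 3).coeff (μ 0 + μ 1 + μ 2 + μ 3) =
        algebraMap k R (p 0) ^ μ 0 * algebraMap k R (p 1) ^ μ 1 * algebraMap k R (p 2) ^ μ 2 * algebraMap k R (p 3) ^ μ 3 := by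
      rw [Polynomial.coeff_mul_add_eq_of_natDegree_le h012 (hL 3 (μ 3)).1, Polynomial.coeff_mul_add_eq_of_natDegree_le h01 (hL 2 (μ 2)).1,
        Polynomial.coeff_mul_add_eq_of_natDegree_le (hL 0 (μ 0)).1 (hL 1 (μ 1)).1, (hL 0 _).2, (hL 1 _).2, (hL 2 _).2, (hL 3 _).2]
    rw [hdeg] at h3
    rw [Polynomial.coeff_C_mul, h3]
    simp
  exact ⟨Polynomial.natDegree_sum_le_of_forall_le _ _ fun μ hμ => (hmon μ hμ).1,
    Finset.sum_congr rfl fun μ hμ => (hmon μ hμ).2⟩

omit [CharZero k] in
lemma eval₂_linePoly {T : Type*} [CommRing T] [Algebra k T] (g : R →ₐ[k] T) (s : T) (p : Fin 4 → k) (Y : Fin 4 → R)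
    (F : MvPolynomial (Fin 4) k) :
    (linePoly p Y F).eval₂ (g : R →+* T) s = aeval (fun j => g (Y j) + algebraMap k T (p j) * s) F := by
  rw [linePoly]
  induction F using MvPolynomial.induction_on with
  | C c => simp [Polynomial.algebraMap_apply]
  | add a b ha hb => simp only [map_add, Polynomial.eval₂_add, ha, hb]
  | mul_X a j ha => simp [map_mul, ha]

end line

omit [CharZero k] in
/-- A line all whose points on the surface avoid a polynomial not divisible by the cubic. -/
theorem exists_line [Infinite k] (F P : MvPolynomial (Fin 4) k) (hF : F.IsHomogeneous 3) (hirr : Irreducible F) (hP : ¬ F ∣ P) :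
    ∃ p y : Fin 4 → k, eval p F ≠ 0 ∧ ∀ (E : Type v) [Field E] [Algebra k E] (s : E),
      aeval (fun j => algebraMap k E (y j) + algebraMap k E (p j) * s) P = 0 →
      aeval (fun j => algebraMap k E (y j) + algebraMap k E (p j) * s) F ≠ 0 := by
  classical
  obtain ⟨q, hq⟩ : ∃ q, eval q F ≠ 0 := by
    by_contra hno
    push Not at hno
    exact hirr.ne_zero (MvPolynomial.funext fun q => by rw [hno, map_zero])
  obtain ⟨i0, hi0⟩ : ∃ i, q i ≠ 0 := by
    by_contra hno
    push Not at hno
    exact hq (by rw [show q = 0 from funext hno, eval_zero, constantCoeff_eq]; exact hF.coeff_eq_zero (by simp))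
  obtain ⟨p, hp1, hp⟩ : ∃ p : Fin 4 → k, p i0 = 1 ∧ eval p F ≠ 0 :=
    ⟨(q i0)⁻¹ • q, by simp [hi0], by
      rw [eval_smul_eq hF]; exact mul_ne_zero (pow_ne_zero _ (inv_ne_zero hi0)) hq⟩
  let I : Ideal (MvPolynomial (Fin 4) k) := Ideal.span {F}
  haveI hI : I.IsPrime := (Ideal.span_singleton_prime hirr.ne_zero).mpr hirr.prime
  let φ : MvPolynomial (Fin 4) k →ₐ[k] MvPolynomial (Fin 4) k := aeval fun j => X j - C (p j) * X i0
  let ψ : MvPolynomial (Fin 4) k →ₐ[k] (MvPolynomial (Fin 4) k ⧸ I) := (Ideal.Quotient.mkₐ k I).comp φ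
  let s₀ := Ideal.Quotient.mkₐ k I (X i0)
  have hX : ∀ j, Ideal.Quotient.mkₐ k I (X j) = ψ (X j) + algebraMap k _ (p j) * s₀ := fun j => by
    simp only [ψ, φ, s₀, AlgHom.comp_apply, aeval_X, map_sub, map_mul]
    rw [← algebraMap_eq, AlgHom.commutes]
    ring
  letI : Algebra (MvPolynomial (Fin 4) k) (MvPolynomial (Fin 4) k ⧸ I) := ψ.toRingHom.toAlgebra
  have halg : ∀ a : MvPolynomial (Fin 4) k, algebraMap (MvPolynomial (Fin 4) k) (MvPolynomial (Fin 4) k ⧸ I) a = ψ a := fun _ => rfl
  have hs : IsIntegral (MvPolynomial (Fin 4) k) s₀ := by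
    refine ⟨Polynomial.C (C (eval p F)⁻¹) * linePoly p X F, Polynomial.monic_of_natDegree_le_of_coeff_eq_one 3
      ((Polynomial.natDegree_C_mul_le _ _).trans (linePoly_top hF p _).1) ?_, ?_⟩
    · rw [Polynomial.coeff_C_mul, (linePoly_top hF p _).2, algebraMap_eq, ← map_mul, inv_mul_cancel₀ hp, map_one]
    · rw [Polynomial.eval₂_mul]
      refine mul_eq_zero_of_right _ ((eval₂_linePoly ψ s₀ p X F).trans ?_)
      rw [← funext hX, ← comp_aeval_apply, aeval_X_left_apply]
      exact Ideal.Quotient.eq_zero_iff_mem.mpr (Ideal.mem_span_singleton_self F)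
  have hint : ∀ a, IsIntegral (MvPolynomial (Fin 4) k) (Ideal.Quotient.mkₐ k I a) := fun a => by
    induction a using MvPolynomial.induction_on with
    | C c =>
      rw [← algebraMap_eq, AlgHom.commutes, ← ψ.commutes, ← halg]
      exact isIntegral_algebraMap
    | add a b ha hb => rw [map_add]; exact ha.add hb
    | mul_X a j ha =>
      rw [map_mul, hX, ← ψ.commutes, ← halg, ← halg]
      exact ha.mul (isIntegral_algebraMap.add (isIntegral_algebraMap.mul hs))
  obtain ⟨Q, hQm, hQ⟩ := hint P
  set x := Ideal.Quotient.mkₐ k I P with hx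
  have hx0 : x ≠ 0 := fun h => hP (Ideal.mem_span_singleton.mp (Ideal.Quotient.eq_zero_iff_mem.mp h))
  have hQ0 : Q.map (algebraMap _ (MvPolynomial (Fin 4) k ⧸ I)) ≠ 0 := (hQm.map _).ne_zero
  obtain ⟨m, hm⟩ : ∃ m, m = (Q.map (algebraMap _ (MvPolynomial (Fin 4) k ⧸ I))).natTrailingDegree := ⟨_, rfl⟩
  obtain ⟨Q', hQ'⟩ : Polynomial.X ^ m ∣ Q.map (algebraMap _ (MvPolynomial (Fin 4) k ⧸ I)) :=
    Polynomial.X_pow_dvd_iff.mpr fun d hd => Polynomial.coeff_eq_zero_of_lt_natTrailingDegree (hm ▸ hd)
  have hev : Q'.eval x = 0 := by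
    have h := hQ
    rw [← Polynomial.eval_map, hQ', Polynomial.eval_mul, Polynomial.eval_pow, Polynomial.eval_X] at h
    exact (mul_eq_zero.mp h).resolve_left (pow_ne_zero _ hx0)
  have hc : Q'.coeff 0 = ψ (Q.coeff m) := by
    rw [← halg, ← Polynomial.coeff_map, hQ']
    simp [Polynomial.coeff_X_pow_mul']
  have hc0 : Q'.coeff 0 ≠ 0 := by
    have h : (Q.map (algebraMap _ (MvPolynomial (Fin 4) k ⧸ I))).coeff m ≠ 0 := by
      rw [hm]; exact Polynomial.trailingCoeff_nonzero_iff_nonzero.mpr hQ0
    rw [hQ'] at h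
    simpa [Polynomial.coeff_X_pow_mul'] using h
  obtain ⟨u, hu⟩ : x ∣ Q'.coeff 0 := by
    have h := Polynomial.sub_dvd_eval_sub x 0 Q'
    rw [sub_zero, hev, zero_sub] at h
    obtain ⟨w, hw⟩ := h
    exact ⟨-w, by rw [Polynomial.coeff_zero_eq_eval_zero]; linear_combination -hw⟩
  obtain ⟨U, rfl⟩ := Ideal.Quotient.mkₐ_surjective k I u
  rw [hc, hx, ← map_mul] at hu
  obtain ⟨W, hW⟩ := Ideal.mem_span_singleton'.mp (Ideal.Quotient.eq.mp hu)
  have hne : φ (Q.coeff m) ≠ 0 := fun h => hc0 (by rw [hc]; simp [ψ, h])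
  obtain ⟨z, hz⟩ : ∃ z, eval z (φ (Q.coeff m)) ≠ 0 := by
    by_contra hno
    push Not at hno
    exact hne (MvPolynomial.funext fun z => by rw [hno, map_zero])
  refine ⟨p, fun j => z j - p j * z i0, hp, fun E _ _ s hPa hFa => hz ?_⟩
  have hcomp : ∀ a, aeval (fun j => algebraMap k E (z j - p j * z i0) + algebraMap k E (p j) * s) (φ a) =
      algebraMap k E (eval z (φ a)) := fun a => by
    have h1 := comp_aeval_apply (fun j => X j - C (p j) * X i0)
      (aeval (R := k) fun j => algebraMap k E (z j - p j * z i0) + algebraMap k E (p j) * s) a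
    have h2 := comp_aeval_apply (fun j => X j - C (p j) * X i0) (aeval (R := k) fun j => algebraMap k E (z j)) a
    have h3 : algebraMap k E (eval z (φ a)) = aeval (fun j => algebraMap k E (z j)) (φ a) := by
      rw [← aeval_eq_eval]
      exact (aeval_algebraMap_apply E z (φ a)).symm
    rw [h3]
    refine h1.trans (Eq.trans ?_ h2.symm)
    refine congrArg (fun f => aeval f a) (funext fun j => ?_)
    simp [hp1]
  refine (algebraMap k E).injective ?_
  rw [← hcomp, map_zero]
  have h := congrArg (aeval (R := k) fun j => algebraMap k E (z j - p j * z i0) + algebraMap k E (p j) * s) hW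
  rw [map_mul, hFa, mul_zero, map_sub, map_mul, hPa, zero_mul, sub_zero] at h
  exact h.symm

/-- A line on which the cubic has roots giving Pfaffian representations over their fields. -/
theorem exists_rep_line (F : MvPolynomial (Fin 4) k) (hF : F.IsHomogeneous 3)
    (hirr : Irreducible (MvPolynomial.map (algebraMap k K) F))
    (hcone : ¬ ∃ v : Fin 4 → k, v ≠ 0 ∧ ∑ i : Fin 4, v i • pderiv i F = 0) :
    ∃ f : Polynomial k, f.natDegree = 3 ∧ ∀ (E : Type w) [Field E] [Algebra k E] [Algebra E K] [IsScalarTower k E K] (s : E),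
      Polynomial.aeval s f = 0 →
      ∃ M : Matrix (Fin 6) (Fin 6) (MvPolynomial (Fin 4) E), (∀ i j, (M i j).IsHomogeneous 1) ∧ M.transpose = -M ∧
        (∀ i, M i i = 0) ∧ ∃ c : E, c ≠ 0 ∧ M.det = C c * (MvPolynomial.map (algebraMap k E) F) ^ 2 := by
  classical
  have hnu : ∀ P : MvPolynomial (Fin 4) k, IsUnit (MvPolynomial.map (algebraMap k K) P) → IsUnit P := fun P hu => by
    obtain ⟨c, hc, hPc⟩ := MvPolynomial.isUnit_iff_eq_C_of_isReduced.mp hu
    have hcoef : ∀ μ, μ ≠ 0 → coeff μ P = 0 := fun μ hμ => (algebraMap k K).injective (by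
      rw [map_zero, ← coeff_map, hPc, coeff_C, if_neg hμ.symm])
    have hPC : P = C (coeff 0 P) := MvPolynomial.ext _ _ fun μ => by
      by_cases hμ : μ = 0
      · simp [hμ]
      · rw [hcoef μ hμ, coeff_C, if_neg (Ne.symm hμ)]
    rw [hPC]
    refine (IsUnit.mk0 _ fun h0 => ?_).map C
    rw [hPC, h0, map_zero, map_zero] at hPc
    exact hc.ne_zero (C_injective _ _ (hPc.symm.trans (map_zero C).symm))
  have hirrk : Irreducible F :=
    ⟨fun h => hirr.not_isUnit (h.map _), fun a b hab => (hirr.isUnit_or_isUnit (by rw [hab, map_mul])).imp (hnu a) (hnu b)⟩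
  obtain ⟨P, hP, hPT⟩ := exists_test (K := K) F hF hirr hcone
  obtain ⟨p, y, hp, hline⟩ := exists_line.{u, w} F P hF hirrk hP
  refine ⟨linePoly p y F, Polynomial.natDegree_eq_of_le_of_coeff_ne_zero (linePoly_top hF p y).1
    (by rw [(linePoly_top hF p y).2]; simpa using hp), fun E _ _ _ _ s hs => ?_⟩
  haveI : CharZero E := charZero_of_injective_algebraMap (algebraMap k E).injective
  let a : Fin 4 → E := fun j => algebraMap k E (y j) + algebraMap k E (p j) * s
  have haF : aeval a F = 0 := by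
    have h := eval₂_linePoly (Algebra.ofId k E) s p y F
    rw [Polynomial.aeval_def] at hs
    exact h.symm.trans hs
  have haP : aeval a P ≠ 0 := fun h => hline E s h haF
  let aK : Fin 4 → K := fun j => algebraMap E K (a j)
  have hmap : MvPolynomial.map (algebraMap E K) (MvPolynomial.map (algebraMap k E) F) = MvPolynomial.map (algebraMap k K) F := by
    rw [MvPolynomial.map_map, ← IsScalarTower.algebraMap_eq]
  have haK : aeval aK P ≠ 0 := by
    rw [show aK = algebraMap E K ∘ a from rfl, aeval_algebraMap_apply]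
    exact (map_ne_zero _).mpr haP
  obtain ⟨h0, hnt⟩ := hPT aK haK
  obtain ⟨q, -, hq, hgen⟩ := five_points (k := E) (K := K) (MvPolynomial.map (algebraMap k E) F) (hF.map _)
    (by rw [hmap]; exact hirr)
    (fun ⟨v, hv0, hv⟩ => hv0 (ncone_map F hcone v hv)) a
    (fun h => h0 (funext fun j => by simp [aK, h]))
    (by rw [eval_map, ← aeval_def]; exact haF)
    (Or.inr (by rw [hmap]; exact hnt))
  exact exists_rep_of_five (hF.map _) q hq hgen

end Groth.Agent.CubicTPLib
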